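import Groth.Agent.TorsLocLib.Local
import Groth.Agent.RichLib.FibreMore
import Groth.Agent.ProConsLib.Sch
import Groth.Agent.KFlatLib.QCohPull
import Groth.Agent.ConsLib.ModLoci
import Groth.Agent.S4357
import Groth.Agent.S3427
import Groth.Agent.S3428
import Groth.Agent.DepthLib.NoEmbLoci
import Groth.Agent.FlatFunLimLib.Main
import Mathlib

/-! # The loci of fibres with torsion or torsion-free module -/

set_option autoImplicit false
set_option maxHeartbeats 1000000
set_option backward.isDefEq.respectTransparency false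
set_option linter.all false

noncomputable section

universe u

open CategoryTheory AlgebraicGeometry TopologicalSpace Topology

namespace TorsLocLib

variable {X S : Scheme.{u}} (f : X ⟶ S)

theorem isLocallyConstructible_of_isClosed {Y : Scheme.{u}} [IsLocallyNoetherian Y] {T : Set Y} (hT : IsClosed T) :
    IsLocallyConstructible T := by
  refine Groth.Agent.ProConsLib.isLocallyConstructible_iff_affine.2 fun U hU => ?_
  haveI : IsAffine U.toScheme := hU
  haveI : IsNoetherian U.toScheme := { }
  have h := ((NoetherianSpace.isCompact ((U.ι ⁻¹' T)ᶜ)).isConstructible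
    (hT.preimage U.ι.continuous).isOpen_compl).compl
  rwa [compl_compl] at h

theorem dense_preimage_fiber_iff (Z : Set X) (s : S) :
    Dense ((f.fiberι s) ⁻¹' Z) ↔ Set.univ ∩ f ⁻¹' {s} ⊆ closure (Z ∩ f ⁻¹' {s}) := by
  have hi := (f.fiberι s).isEmbedding.isInducing
  rw [dense_iff_closure_eq, hi.closure_eq_preimage_closure_image, Set.image_preimage_eq_inter_range,
    f.range_fiberι, Set.univ_inter, Set.eq_univ_iff_forall]
  refine ⟨fun h x hx => ?_, fun h y => h ?_⟩
  · obtain ⟨y, rfl⟩ := (f.range_fiberι s).ge hx
    exact h y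
  · rw [← f.range_fiberι]
    exact ⟨y, rfl⟩

theorem isOpen_preimage_fiber_iff (Z : Set X) (s : S) :
    IsOpen ((f.fiberι s) ⁻¹' Z) ↔ IsOpen (Subtype.val ⁻¹' Z : Set ↥(f ⁻¹' {s})) := by
  rw [← (f.fiberHomeo s).isOpen_preimage]
  exact Iff.rfl

variable [IsLocallyNoetherian S] [LocallyOfFiniteType f] [QuasiCompact f] (F : X.Modules) [Coh.IsQCoh F]
  (hF : CohB1.IsFP F) (hint : ∀ (s : S) (x : ↥(f.fiber s)), IsDomain ((f.fiber s).presheaf.stalk x))

include hF hint in
theorem torsion_fibre_eq_top_iff (s : S) :
    (∀ x : ↥(f.fiber s), Submodule.torsion ((f.fiber s).presheaf.stalk x)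
      (((Scheme.Modules.pullback (f.fiberι s)).obj F).presheaf.stalk x) = ⊤) ↔
      Set.univ ∩ f ⁻¹' {s} ⊆ closure ((CohB1.support F)ᶜ ∩ f ⁻¹' {s}) := by
  haveI := hint s
  haveI : LocallyOfFiniteType (f.fiberToSpecResidueField s) := MorphismProperty.pullback_snd _ _ inferInstance
  haveI : IsLocallyNoetherian (f.fiber s) := LocallyOfFiniteType.isLocallyNoetherian (f.fiberToSpecResidueField s)
  haveI : Coh.IsQCoh ((Scheme.Modules.pullback (f.fiberι s)).obj F) := KFlatLib.isQCoh_pullback (f.fiberι s) F
  have hFT := FlatFunLimLib.isFT_of_isFP' hF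
  have hFT' := ConsLib.isFT_pullback (f.fiberι s) F hFT
  rw [torsion_eq_top_iff _ hFT', forall_maxPt_notMem_iff_dense _ hFT',
    Groth.Agent.S4357.result (f.fiberι s) F hFT, ← Set.preimage_compl, dense_preimage_fiber_iff]

include hF hint in
theorem torsion_fibre_eq_bot_iff (s : S) :
    (∀ x : ↥(f.fiber s), Submodule.torsion ((f.fiber s).presheaf.stalk x)
      (((Scheme.Modules.pullback (f.fiberι s)).obj F).presheaf.stalk x) = ⊥) ↔
      AssSch.NoEmbedded ((Scheme.Modules.pullback (f.fiberι s)).obj F) ∧
        IsOpen (Subtype.val ⁻¹' CohB1.support F : Set ↥(f ⁻¹' {s})) := by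
  haveI := hint s
  haveI : LocallyOfFiniteType (f.fiberToSpecResidueField s) := MorphismProperty.pullback_snd _ _ inferInstance
  haveI : IsLocallyNoetherian (f.fiber s) := LocallyOfFiniteType.isLocallyNoetherian (f.fiberToSpecResidueField s)
  haveI : Coh.IsQCoh ((Scheme.Modules.pullback (f.fiberι s)).obj F) := KFlatLib.isQCoh_pullback (f.fiberι s) F
  have hFT := FlatFunLimLib.isFT_of_isFP' hF
  have hFT' := ConsLib.isFT_pullback (f.fiberι s) F hFT
  rw [torsion_eq_bot_iff _ hFT', Groth.Agent.S4357.result (f.fiberι s) F hFT, isOpen_preimage_fiber_iff]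

include hF hint in
theorem isLocallyConstructible_torsion :
    IsLocallyConstructible {s : S | ∀ x : ↥(f.fiber s), Submodule.torsion ((f.fiber s).presheaf.stalk x)
      (((Scheme.Modules.pullback (f.fiberι s)).obj F).presheaf.stalk x) = ⊤} := by
  haveI : LocallyOfFinitePresentation f := LocallyOfFinitePresentation.iff_locallyOfFiniteType.2 inferInstance
  haveI : IsLocallyNoetherian X := LocallyOfFiniteType.isLocallyNoetherian f
  haveI : QuasiSeparated f := inferInstance
  have hS := QCohLib.isClosed_support F (FlatFunLimLib.isFT_of_isFP' hF)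
  have hZ : IsLocallyConstructible (CohB1.support F)ᶜ := DepthLib.isLocallyConstructible_compl (isLocallyConstructible_of_isClosed hS)
  have h := Groth.Agent.S3427.result f (CohB1.support F)ᶜ Set.univ hZ
    (isLocallyConstructible_of_isClosed isClosed_univ) (Set.subset_univ _)
  exact (congrArg IsLocallyConstructible (Set.ext fun s => (torsion_fibre_eq_top_iff f F hF hint s).symm)).mp h

include hF hint in
theorem isLocallyConstructible_torsionFree :
    IsLocallyConstructible {s : S | ∀ x : ↥(f.fiber s), Submodule.torsion ((f.fiber s).presheaf.stalk x)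
      (((Scheme.Modules.pullback (f.fiberι s)).obj F).presheaf.stalk x) = ⊥} := by
  haveI : LocallyOfFinitePresentation f := LocallyOfFinitePresentation.iff_locallyOfFiniteType.2 inferInstance
  haveI : IsLocallyNoetherian X := LocallyOfFiniteType.isLocallyNoetherian f
  haveI : QuasiSeparated f := inferInstance
  have hFT := FlatFunLimLib.isFT_of_isFP' hF
  have h₁ := DepthLib.isLocallyConstructible_noEmbedded_fibre f F hF hFT
  have h₂ := (Groth.Agent.S3428.result f (CohB1.support F)
    (isLocallyConstructible_of_isClosed (QCohLib.isClosed_support F hFT))).2.1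
  exact (congrArg IsLocallyConstructible (Set.ext fun s => (torsion_fibre_eq_bot_iff f F hF hint s).symm)).mp
    (h₁.inter h₂)

end TorsLocLib
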