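import Groth.Agent.DvrLenLib.Stalks
import Groth.Agent.CycP1Lib.Length
import Groth.Agent.FFDescLib.Closure
import Groth.Agent.QCohLib.Support

/-! # Torsion and torsion-free stalks on locally integral schemes -/

set_option autoImplicit false
set_option maxHeartbeats 1000000
set_option backward.isDefEq.respectTransparency false
set_option linter.all false

noncomputable section

universe u

open CategoryTheory AlgebraicGeometry TopologicalSpace IsLocalRing nonZeroDivisors

namespace TorsLocLib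

variable {Y : Scheme.{u}}

/-- `y` has no proper generalization. -/
def IsMaxPt (y : Y) : Prop := ∀ w : Y, w ⤳ y → w = y

theorem maximalIdeal_eq_bot [∀ y : Y, IsDomain (Y.presheaf.stalk y)] {y : Y} (hy : IsMaxPt y) :
    maximalIdeal (Y.presheaf.stalk y) = ⊥ := by
  have e : (⟨⊥, Ideal.isPrime_bot⟩ : PrimeSpectrum (Y.presheaf.stalk y)) = closedPoint _ :=
    EquidimLib.stalkPt_injective y ((hy _ (EquidimLib.stalkPt_specializes y _)).trans
      Scheme.fromSpecStalk_closedPoint.symm)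
  exact (congrArg PrimeSpectrum.asIdeal e).symm

theorem isMaxPt_bot [∀ y : Y, IsDomain (Y.presheaf.stalk y)] (x : Y) :
    IsMaxPt (EquidimLib.stalkPt x ⟨⊥, Ideal.isPrime_bot⟩) := fun w hw => by
  obtain ⟨q, rfl⟩ := EquidimLib.exists_stalkPt (hw.trans (EquidimLib.stalkPt_specializes x _))
  refine congrArg (EquidimLib.stalkPt x) (PrimeSpectrum.ext ?_)
  exact le_antisymm (EquidimLib.le_of_stalkPt hw) bot_le

theorem exists_maxPt [∀ y : Y, IsDomain (Y.presheaf.stalk y)] (x : Y) : ∃ η : Y, IsMaxPt η ∧ η ⤳ x :=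
  ⟨_, isMaxPt_bot x, EquidimLib.stalkPt_specializes x _⟩

theorem eq_bot_pt [∀ y : Y, IsDomain (Y.presheaf.stalk y)] {η x : Y} (hη : IsMaxPt η) (h : η ⤳ x) :
    η = EquidimLib.stalkPt x ⟨⊥, Ideal.isPrime_bot⟩ := by
  obtain ⟨q, rfl⟩ := EquidimLib.exists_stalkPt h
  exact (hη _ (EquidimLib.specializes_stalkPt (p := (⟨⊥, Ideal.isPrime_bot⟩ : PrimeSpectrum _)) (q := q)
    (show (⊥ : Ideal _) ≤ q.asIdeal from bot_le))).symm

variable (G : Y.Modules) [Coh.IsQCoh G] (hG : CohB1.IsFT G)

include hG in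
theorem torsion_eq_top_iff [∀ y : Y, IsDomain (Y.presheaf.stalk y)] :
    (∀ y : Y, Submodule.torsion (Y.presheaf.stalk y) (G.presheaf.stalk y) = ⊤) ↔
      ∀ y : Y, IsMaxPt y → y ∉ CohB1.support G := by
  refine ⟨fun h y hy hs => hs ⟨fun a b => ?_⟩, fun h x => ?_⟩
  · suffices hz : ∀ m : G.presheaf.stalk y, m = 0 by rw [hz a, hz b]
    intro m
    obtain ⟨⟨r, hr⟩, hrm⟩ := (Submodule.mem_torsion_iff m).1 ((h y).ge Submodule.mem_top)
    have hu : IsUnit r := by
      by_contra hu
      have h1 : r ∈ maximalIdeal (Y.presheaf.stalk y) := (IsLocalRing.mem_maximalIdeal r).2 hu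
      rw [maximalIdeal_eq_bot hy, Ideal.mem_bot] at h1
      exact nonZeroDivisors.ne_zero hr h1
    exact hu.smul_eq_zero.1 hrm
  · rw [eq_top_iff]
    intro m _
    have hns : (⟨⊥, Ideal.isPrime_bot⟩ : PrimeSpectrum (Y.presheaf.stalk x)) ∉
        Module.support (Y.presheaf.stalk x) (G.presheaf.stalk x) := fun hp =>
      h _ (isMaxPt_bot x) ((DvrLenLib.mem_support_stalk_iff G hG x _).1 hp)
    obtain ⟨r, hr, hrm⟩ := Module.notMem_support_iff'.1 hns m
    exact (Submodule.mem_torsion_iff m).2 ⟨⟨r, mem_nonZeroDivisors_of_ne_zero fun h0 => hr (by simp [h0])⟩, hrm⟩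

include hG in
theorem exists_ass_specializes [IsLocallyNoetherian Y] {x : Y} (hx : x ∈ CohB1.support G) :
    ∃ y ∈ AssSch.Ass G, y ⤳ x := by
  haveI : Nontrivial (G.presheaf.stalk x) := not_subsingleton_iff_nontrivial.1 hx
  obtain ⟨z, hz⟩ := exists_ne (0 : G.presheaf.stalk x)
  obtain ⟨P, hP, -⟩ := exists_le_isAssociatedPrime_of_isNoetherianRing (Y.presheaf.stalk x) z hz
  exact ⟨_, CycP1Lib.assoc_stalkPt hG x ⟨P, (isAssociatedPrime_iff.1 hP).1⟩ hP, EquidimLib.stalkPt_specializes x _⟩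

include hG in
theorem torsion_eq_bot_iff_ass [IsLocallyNoetherian Y] [∀ y : Y, IsDomain (Y.presheaf.stalk y)] :
    (∀ y : Y, Submodule.torsion (Y.presheaf.stalk y) (G.presheaf.stalk y) = ⊥) ↔ ∀ y ∈ AssSch.Ass G, IsMaxPt y := by
  refine ⟨fun h y hy w hw => ?_, fun h x => ?_⟩
  · obtain ⟨q, rfl⟩ := EquidimLib.exists_stalkPt hw
    obtain ⟨-, m, hm⟩ := isAssociatedPrime_iff.1 (show IsAssociatedPrime _ _ from hy)
    have hmax : maximalIdeal (Y.presheaf.stalk y) = ⊥ := by
      rw [eq_bot_iff]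
      intro r hr
      rw [Ideal.mem_bot]
      by_contra h0
      have h1 : m ∈ Submodule.torsion (Y.presheaf.stalk y) (G.presheaf.stalk y) := by
        refine (Submodule.mem_torsion_iff m).2 ⟨⟨r, mem_nonZeroDivisors_of_ne_zero h0⟩, ?_⟩
        have h2 : r ∈ maximalIdeal (Y.presheaf.stalk y) := hr
        rw [hm, Submodule.mem_colon_singleton, Submodule.mem_bot] at h2
        exact h2
      rw [h y, Submodule.mem_bot] at h1
      have h3 : (1 : Y.presheaf.stalk y) ∈ maximalIdeal (Y.presheaf.stalk y) := by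
        rw [hm, Submodule.mem_colon_singleton, Submodule.mem_bot, h1, smul_zero]
      exact (Ideal.ne_top_iff_one _).1 (maximalIdeal.isMaximal _).ne_top h3
    refine (congrArg (EquidimLib.stalkPt y) (PrimeSpectrum.ext ?_ : q = closedPoint _)).trans
      Scheme.fromSpecStalk_closedPoint
    exact le_antisymm (le_maximalIdeal q.isPrime.ne_top) (hmax.le.trans bot_le)
  · rw [Submodule.eq_bot_iff]
    intro m hm
    by_contra hm0
    obtain ⟨⟨r, hr⟩, hrm⟩ := (Submodule.mem_torsion_iff m).1 hm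
    obtain ⟨P, hP, hle⟩ := exists_le_isAssociatedPrime_of_isNoetherianRing (Y.presheaf.stalk x) m hm0
    have hp := (isAssociatedPrime_iff.1 hP).1
    have hy := CycP1Lib.assoc_stalkPt hG x ⟨P, hp⟩ hP
    have e := eq_bot_pt (h _ hy) (EquidimLib.stalkPt_specializes x ⟨P, hp⟩)
    have e' : P = ⊥ := congrArg PrimeSpectrum.asIdeal (EquidimLib.stalkPt_injective x e)
    have h4 : r ∈ P := hle (by
      rw [Submodule.mem_colon_singleton, Submodule.mem_bot]
      exact hrm)
    rw [e', Ideal.mem_bot] at h4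
    exact nonZeroDivisors.ne_zero hr h4

include hG in
theorem torsion_eq_bot_iff [IsLocallyNoetherian Y] [∀ y : Y, IsDomain (Y.presheaf.stalk y)] :
    (∀ y : Y, Submodule.torsion (Y.presheaf.stalk y) (G.presheaf.stalk y) = ⊥) ↔
      AssSch.NoEmbedded G ∧ IsOpen (CohB1.support G) := by
  rw [torsion_eq_bot_iff_ass G hG]
  let O : Y.Opens := ⟨(CohB1.support G)ᶜ, (QCohLib.isClosed_support G hG).isOpen_compl⟩
  constructor
  · intro h
    refine ⟨fun x hx y hy hyx => (h x hx y hyx).symm, ?_⟩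
    rw [← isClosed_compl_iff]
    refine isClosed_of_closure_subset fun x hx hxs => ?_
    obtain ⟨o, ho⟩ := FFDescLib.exists_specializes_of_mem_closure_range (f := O.ι) (y := x) (by
      rw [Scheme.Opens.range_ι]
      exact hx)
    obtain ⟨a, ha, hax⟩ := exists_ass_specializes G hG hxs
    obtain ⟨η, hη, hηo⟩ := exists_maxPt (O.ι o)
    have e : a = η := (eq_bot_pt (h a ha) hax).trans (eq_bot_pt hη (hηo.trans ho)).symm
    have hηs : η ∈ CohB1.support G := e ▸ (show ¬ Subsingleton _ from fun hsub => by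
      obtain ⟨-, m, hm⟩ := isAssociatedPrime_iff.1 (show IsAssociatedPrime _ _ from ha)
      have h3 : (1 : Y.presheaf.stalk a) ∈ maximalIdeal (Y.presheaf.stalk a) := by
        rw [hm, Submodule.mem_colon_singleton, Submodule.mem_bot]
        exact Subsingleton.elim _ _
      exact (Ideal.ne_top_iff_one _).1 (maximalIdeal.isMaximal _).ne_top h3)
    exact o.2 (hηo.mem_closed (QCohLib.isClosed_support G hG) hηs)
  · rintro ⟨hne, hopen⟩ y hy
    obtain ⟨η, hη, hηy⟩ := exists_maxPt y
    have hys : y ∈ CohB1.support G := fun hsub => by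
      obtain ⟨-, m, hm⟩ := isAssociatedPrime_iff.1 (show IsAssociatedPrime _ _ from hy)
      have h3 : (1 : Y.presheaf.stalk y) ∈ maximalIdeal (Y.presheaf.stalk y) := by
        rw [hm, Submodule.mem_colon_singleton, Submodule.mem_bot]
        exact Subsingleton.elim _ _
      exact (Ideal.ne_top_iff_one _).1 (maximalIdeal.isMaximal _).ne_top h3
    have hηs : η ∈ CohB1.support G := hηy.mem_open hopen hys
    have hηa : η ∈ AssSch.Ass G := DvrLenLib.mem_ass_of_max G hG hηs fun w _ hw => hη w hw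
    rw [hne y hy η hηa hηy]
    exact hη

include hG in
theorem forall_maxPt_notMem_iff_dense [IsLocallyNoetherian Y] [∀ y : Y, IsDomain (Y.presheaf.stalk y)] :
    (∀ y : Y, IsMaxPt y → y ∉ CohB1.support G) ↔ Dense (CohB1.support G)ᶜ := by
  let O : Y.Opens := ⟨(CohB1.support G)ᶜ, (QCohLib.isClosed_support G hG).isOpen_compl⟩
  refine ⟨fun h x => ?_, fun h y hy => ?_⟩
  · obtain ⟨η, hη, hηx⟩ := exists_maxPt x
    exact closure_mono (Set.singleton_subset_iff.2 (h η hη)) hηx.mem_closure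
  · obtain ⟨o, ho⟩ := FFDescLib.exists_specializes_of_mem_closure_range (f := O.ι) (y := y) (by
      rw [Scheme.Opens.range_ι]
      exact h y)
    rw [← hy _ ho]
    exact o.2

end TorsLocLib
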